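import Mathlib
import Groth.Prelude.Def_Pi1

/-! The normalization of an integral scheme in an extension of its function field. -/

set_option autoImplicit false
set_option backward.isDefEq.respectTransparency.types false

universe u

namespace Groth.Agent.NormalizationLib

open CategoryTheory CategoryTheory.Limits AlgebraicGeometry TopologicalSpace IsLocalRing

theorem isIntegrallyClosed_integralClosure (A L : Type u) [CommRing A] [Field L] [Algebra A L] :
    IsIntegrallyClosed (integralClosure A L) := by
  let C := integralClosure A L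
  have hC : Function.Injective (algebraMap C L) := Subtype.val_injective
  let F : FractionRing C →+* L := IsFractionRing.lift hC
  refine (isIntegrallyClosed_iff (FractionRing C)).mpr fun {x} hx ↦ ?_
  obtain ⟨q, hq, hqx⟩ := hx
  have hF : F.comp (algebraMap C (FractionRing C)) = algebraMap C L :=
    RingHom.ext (IsFractionRing.lift_algebraMap hC)
  have h : _root_.IsIntegral C (F x) := ⟨q, hq, by rw [← hF, ← Polynomial.hom_eval₂, hqx, map_zero]⟩
  have hA : _root_.IsIntegral A (F x) := isIntegral_trans (F x) h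
  exact ⟨⟨F x, hA⟩, F.injective (IsFractionRing.lift_algebraMap hC _)⟩

variable {X : Scheme.{u}} [AlgebraicGeometry.IsIntegral X] {K : Type u} [Field K] (φ : X.functionField →+* K)
  (g : Spec (CommRingCat.of K) ⟶ X)
  (hg : g = Spec.map (CommRingCat.ofHom φ) ≫ X.fromSpecStalk (genericPoint X))

include hg in
theorem g_closedPoint : g (closedPoint K) = genericPoint X := by
  have : IsLocalHom (CommRingCat.ofHom φ).hom :=
    ⟨fun a ha ↦ isUnit_iff_ne_zero.mpr ((map_ne_zero φ).mp ha.ne_zero)⟩
  rw [hg, Scheme.Hom.comp_apply, show (Spec.map (CommRingCat.ofHom φ)) (closedPoint K) =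
    closedPoint X.functionField from Spec_closedPoint (f := CommRingCat.ofHom φ),
    Scheme.fromSpecStalk_closedPoint]

include hg in
theorem closedPoint_mem {U : X.Opens} [Nonempty U] : g (closedPoint K) ∈ U := by
  rw [g_closedPoint φ g hg]
  obtain ⟨⟨x, hx⟩⟩ := ‹Nonempty U›
  exact (genericPoint_specializes x).mem_open U.isOpen hx

/-- `Γ(U) → K`. -/
noncomputable def toK (U : X.Opens) [Nonempty U] : Γ(X, U) →+* K := φ.comp (X.germToFunctionField U).hom

include hg in
/-- The sections of `Spec K` over a preimage of a nonempty open. -/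
noncomputable def secIso (U : X.Opens) [Nonempty U] : Γ(Spec (CommRingCat.of K), g ⁻¹ᵁ U) ≅ CommRingCat.of K :=
  (Spec (CommRingCat.of K)).presheaf.mapIso
      (eqToIso (Scheme.preimage_eq_top_of_closedPoint_mem g (closedPoint_mem φ g hg)).symm).op ≪≫
    Scheme.ΓSpecIso (CommRingCat.of K)

theorem app_secIso (U : X.Opens) [Nonempty U] : (g.app U ≫ (secIso φ g hg U).hom).hom = toK φ U := by
  subst hg
  have : IsLocalHom (CommRingCat.ofHom φ).hom :=
    ⟨fun a ha ↦ isUnit_iff_ne_zero.mpr ((map_ne_zero φ).mp ha.ne_zero)⟩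
  rw [show (Spec.map (CommRingCat.ofHom φ) ≫ X.fromSpecStalk (genericPoint X)).app U ≫
      (secIso φ _ rfl U).hom = X.presheaf.germ U _ (closedPoint_mem φ _ rfl) ≫
      Scheme.stalkClosedPointTo (Spec.map (CommRingCat.ofHom φ) ≫ X.fromSpecStalk (genericPoint X)) from
    (Scheme.germ_stalkClosedPointTo _ U (closedPoint_mem φ _ rfl)).symm]
  rw [Scheme.germ_stalkClosedPointTo_Spec_fromSpecStalk]
  rfl

variable [QuasiCompact g] [QuasiSeparated g]

/-- The functions on the normalization over `U`, as elements of `K`. -/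
noncomputable def normToK (U : X.Opens) (hU : IsAffineOpen U) [Nonempty U] :
    Γ(g.normalization, g.fromNormalization ⁻¹ᵁ U) ⟶ CommRingCat.of K :=
  letI := (g.app U).hom.toAlgebra
  (g.normalizationObjIso hU).hom ≫
    CommRingCat.ofHom (integralClosure Γ(X, U) Γ(Spec (CommRingCat.of K), g ⁻¹ᵁ U)).val.toRingHom ≫
    (secIso φ g hg U).hom

theorem injective_normToK (U : X.Opens) (hU : IsAffineOpen U) [Nonempty U] :
    Function.Injective (normToK φ g hg U hU).hom := by
  let := (g.app U).hom.toAlgebra
  exact (ConcreteCategory.bijective_of_isIso (secIso φ g hg U).hom).1.comp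
    (Subtype.val_injective.comp (ConcreteCategory.bijective_of_isIso (g.normalizationObjIso hU).hom).1)

theorem mem_range_normToK (U : X.Opens) (hU : IsAffineOpen U) [Nonempty U] (y : K) :
    y ∈ Set.range (normToK φ g hg U hU).hom ↔ (toK φ U).IsIntegralElem y := by
  let := (g.app U).hom.toAlgebra
  let e := (secIso φ g hg U).commRingCatIsoToRingEquiv
  have he : e.toRingHom.comp (g.app U).hom = toK φ U := app_secIso φ g hg U
  constructor
  · rintro ⟨v, rfl⟩
    obtain ⟨q, hq, hqv⟩ := ((g.normalizationObjIso hU).hom v).2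
    refine ⟨q, hq, ?_⟩
    rw [← he]
    exact (Polynomial.hom_eval₂ q (g.app U).hom e.toRingHom _).symm.trans
      ((congrArg e.toRingHom hqv).trans (map_zero _))
  · rintro ⟨q, hq, hqy⟩
    have hy : _root_.IsIntegral Γ(X, U) (e.symm y) := ⟨q, hq, e.injective (by
      rw [map_zero, ← hqy, ← he]
      refine (Polynomial.hom_eval₂ q (g.app U).hom e.toRingHom _).trans ?_
      simp)⟩
    refine ⟨(g.normalizationObjIso hU).inv ⟨e.symm y, hy⟩, ?_⟩
    show e ((g.normalizationObjIso hU).hom ((g.normalizationObjIso hU).inv ⟨e.symm y, hy⟩)).1 = y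
    rw [← ConcreteCategory.comp_apply (g.normalizationObjIso hU).inv, Iso.inv_hom_id]
    exact e.apply_symm_apply y

theorem normToK_fromNormalization (U : X.Opens) (hU : IsAffineOpen U) [Nonempty U] (a : Γ(X, U)) :
    (normToK φ g hg U hU).hom ((g.fromNormalization.app U).hom a) = toK φ U a := by
  let := (g.app U).hom.toAlgebra
  rw [g.fromNormalization_app hU, ← app_secIso φ g hg U]
  show (secIso φ g hg U).hom ((g.normalizationObjIso hU).hom ((g.normalizationObjIso hU).inv
    (algebraMap Γ(X, U) _ a))).1 = _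
  rw [← ConcreteCategory.comp_apply (g.normalizationObjIso hU).inv, Iso.inv_hom_id]
  rfl

include hg in
theorem toNormalization_mem (U : X.Opens) [Nonempty U] :
    g.toNormalization (closedPoint K) ∈ g.fromNormalization ⁻¹ᵁ U := by
  show g.fromNormalization (g.toNormalization (closedPoint K)) ∈ U
  rw [← Scheme.Hom.comp_apply, g.toNormalization_fromNormalization]
  exact closedPoint_mem φ g hg

theorem germ_stalkClosedPointTo_toNormalization (U : X.Opens) (hU : IsAffineOpen U) [Nonempty U] :
    g.normalization.presheaf.germ (g.fromNormalization ⁻¹ᵁ U) _ (toNormalization_mem φ g hg U) ≫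
      Scheme.stalkClosedPointTo g.toNormalization = normToK φ g hg U hU := by
  let := (g.app U).hom.toAlgebra
  rw [Scheme.germ_stalkClosedPointTo, g.toNormalization_app_preimage ⟨U, hU⟩]
  simp only [normToK, secIso, Category.assoc, Iso.trans_hom, Functor.mapIso_hom, Iso.op_hom, eqToIso.hom,
    ← Functor.map_comp_assoc, eqToHom_op, eqToHom_trans]
  rfl

/-- Elements of the stalk at the image of the closed point are fractions. -/
theorem exists_frac (U : X.Opens) (hU : IsAffineOpen U) [Nonempty U]
    (t : g.normalization.presheaf.stalk (g.toNormalization (closedPoint K))) :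
    ∃ a b, (normToK φ g hg U hU).hom b ≠ 0 ∧
      (Scheme.stalkClosedPointTo g.toNormalization).hom t =
        (normToK φ g hg U hU).hom a / (normToK φ g hg U hU).hom b := by
  have hV : IsAffineOpen (g.fromNormalization ⁻¹ᵁ U) := hU.preimage _
  have hm := toNormalization_mem φ g hg U
  let := (g.normalization.presheaf.germ (g.fromNormalization ⁻¹ᵁ U) _ hm).hom.toAlgebra
  have := hV.isLocalization_stalk ⟨_, hm⟩
  obtain ⟨⟨a, s⟩, h⟩ := IsLocalization.surj (hV.primeIdealOf ⟨_, hm⟩).asIdeal.primeCompl t
  have hk : ∀ c, (Scheme.stalkClosedPointTo g.toNormalization).hom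
      (g.normalization.presheaf.germ (g.fromNormalization ⁻¹ᵁ U) _ hm c) = (normToK φ g hg U hU).hom c :=
    fun c ↦ ConcreteCategory.congr_hom (germ_stalkClosedPointTo_toNormalization φ g hg U hU) c
  have hu : IsUnit ((Scheme.stalkClosedPointTo g.toNormalization).hom
      (g.normalization.presheaf.germ (g.fromNormalization ⁻¹ᵁ U) _ hm s.1)) :=
    (IsLocalization.map_units (g.normalization.presheaf.stalk (g.toNormalization (closedPoint K))) s).map _
  refine ⟨a, s.1, hk s.1 ▸ hu.ne_zero, ?_⟩
  rw [← hk a, ← hk s.1, eq_div_iff hu.ne_zero, ← map_mul]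
  exact congrArg _ h

include hg in
theorem exists_affine : ∃ U : X.Opens, IsAffineOpen U ∧ Nonempty U := by
  obtain ⟨_, ⟨U, hU, rfl⟩, hηU, -⟩ :=
    X.isBasis_affineOpens.exists_subset_of_mem_open (Set.mem_univ (genericPoint X)) isOpen_univ
  exact ⟨U, hU, ⟨⟨_, hηU⟩⟩⟩

include hg in
theorem injective_stalkClosedPointTo : Function.Injective (Scheme.stalkClosedPointTo g.toNormalization).hom := by
  obtain ⟨U, hU, _⟩ := exists_affine φ g hg
  refine (injective_iff_map_eq_zero _).mpr fun t ht ↦ ?_
  have hV : IsAffineOpen (g.fromNormalization ⁻¹ᵁ U) := hU.preimage _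
  have hm := toNormalization_mem φ g hg U
  let := (g.normalization.presheaf.germ (g.fromNormalization ⁻¹ᵁ U) _ hm).hom.toAlgebra
  have := hV.isLocalization_stalk ⟨_, hm⟩
  obtain ⟨⟨a, s⟩, h⟩ := IsLocalization.surj (hV.primeIdealOf ⟨_, hm⟩).asIdeal.primeCompl t
  have h' := congrArg (Scheme.stalkClosedPointTo g.toNormalization).hom h
  rw [map_mul, ht, zero_mul] at h'
  have hga := ConcreteCategory.congr_hom (germ_stalkClosedPointTo_toNormalization φ g hg U hU) a
  have ha : a = 0 := injective_normToK φ g hg U hU (by rw [map_zero]; exact hga.symm.trans h'.symm)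
  rw [ha, map_zero] at h
  exact (IsLocalization.map_units _ s).mul_left_eq_zero.mp h

include hg in
theorem range_stalkClosedPointTo :
    Set.range (Scheme.stalkClosedPointTo g.toNormalization).hom =
      {y : K | ∃ q : Polynomial X.functionField, q.Monic ∧ Polynomial.eval₂ φ y q = 0} := by
  obtain ⟨U, hU, _⟩ := exists_affine φ g hg
  let := φ.toAlgebra
  let := (toK φ U).toAlgebra
  have : IsScalarTower Γ(X, U) X.functionField K := IsScalarTower.of_algebraMap_eq fun _ ↦ rfl
  ext y
  show _ ↔ _root_.IsIntegral X.functionField y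
  constructor
  · rintro ⟨t, rfl⟩
    obtain ⟨a, b, -, h⟩ := exists_frac φ g hg U hU t
    rw [h, div_eq_mul_inv]
    have key : ∀ c, _root_.IsIntegral X.functionField ((normToK φ g hg U hU).hom c : K) := fun c ↦
      IsIntegral.tower_top (R := Γ(X, U)) ((mem_range_normToK φ g hg U hU _).mp ⟨c, rfl⟩)
    exact (key a).mul (key b).inv
  · intro hy
    have := functionField_isFractionRing_of_isAffineOpen X U hU
    obtain ⟨s, hs⟩ := hy.exists_multiple_integral_of_isLocalization (nonZeroDivisors Γ(X, U)) y
    obtain ⟨v, hv⟩ := (mem_range_normToK φ g hg U hU _).mpr hs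
    have hm := toNormalization_mem φ g hg U
    let w := g.normalization.presheaf.germ (g.fromNormalization ⁻¹ᵁ U) _ hm ((g.fromNormalization.app U).hom s.1)
    have hw : (Scheme.stalkClosedPointTo g.toNormalization).hom w = toK φ U s.1 :=
      (ConcreteCategory.congr_hom (germ_stalkClosedPointTo_toNormalization φ g hg U hU) _).trans
        (normToK_fromNormalization φ g hg U hU _)
    have hs0 : toK φ U s.1 ≠ 0 := (map_ne_zero φ).mpr
      (IsFractionRing.to_map_ne_zero_of_mem_nonZeroDivisors s.2)
    obtain ⟨w', hw'⟩ := isUnit_iff_exists_inv.mp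
      ((isUnit_map_iff (Scheme.stalkClosedPointTo g.toNormalization).hom w).mp (hw ▸ hs0.isUnit))
    have hw'' : (Scheme.stalkClosedPointTo g.toNormalization).hom w' = (toK φ U s.1)⁻¹ :=
      (inv_eq_of_mul_eq_one_right (by rw [← hw, ← map_mul, hw', map_one])).symm
    refine ⟨g.normalization.presheaf.germ (g.fromNormalization ⁻¹ᵁ U) _ hm v * w', ?_⟩
    have hgv := ConcreteCategory.congr_hom (germ_stalkClosedPointTo_toNormalization φ g hg U hU) v
    rw [map_mul, hw'', show (Scheme.stalkClosedPointTo g.toNormalization).hom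
      (g.normalization.presheaf.germ (g.fromNormalization ⁻¹ᵁ U) _ hm v) = toK φ U s.1 * y from hgv.trans hv,
      mul_comm (toK φ U s.1) y, mul_assoc, mul_inv_cancel₀ hs0, mul_one]

include hg in
theorem isNormal : Pi1.IsNormalScheme g.normalization := by
  intro z
  refine ⟨inferInstance, ?_⟩
  obtain ⟨_, ⟨U, hU, rfl⟩, hzU, -⟩ :=
    X.isBasis_affineOpens.exists_subset_of_mem_open (Set.mem_univ (g.fromNormalization z)) isOpen_univ
  have : Nonempty U := ⟨⟨_, hzU⟩⟩
  let := (toK φ U).toAlgebra
  let θ : Γ(g.normalization, g.fromNormalization ⁻¹ᵁ U) →+* integralClosure Γ(X, U) K :=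
    (normToK φ g hg U hU).hom.codRestrict (integralClosure Γ(X, U) K).toSubring
      fun v ↦ (mem_range_normToK φ g hg U hU _).mp ⟨v, rfl⟩
  have hθ : Function.Bijective θ := ⟨fun a b h ↦ injective_normToK φ g hg U hU (congrArg Subtype.val h),
    fun y ↦ by
      obtain ⟨v, hv⟩ := (mem_range_normToK φ g hg U hU _).mpr y.2
      exact ⟨v, Subtype.ext hv⟩⟩
  have := isIntegrallyClosed_integralClosure Γ(X, U) K
  have : IsIntegrallyClosed Γ(g.normalization, g.fromNormalization ⁻¹ᵁ U) :=
    IsIntegrallyClosed.of_equiv (RingEquiv.ofBijective θ hθ).symm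
  have hV : IsAffineOpen (g.fromNormalization ⁻¹ᵁ U) := hU.preimage _
  let := (g.normalization.presheaf.germ (g.fromNormalization ⁻¹ᵁ U) z hzU).hom.toAlgebra
  have := hV.isLocalization_stalk ⟨z, hzU⟩
  have : Nonempty (g.fromNormalization ⁻¹ᵁ U : g.normalization.Opens) := ⟨⟨z, hzU⟩⟩
  exact isIntegrallyClosed_of_isLocalization _ (hV.primeIdealOf ⟨z, hzU⟩).asIdeal.primeCompl
    (Ideal.primeCompl_le_nonZeroDivisors _)

theorem toNormalization_closedPoint :
    g.toNormalization (closedPoint K) = genericPoint g.normalization := by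
  have hr : Set.range g.toNormalization = {g.toNormalization (closedPoint K)} :=
    Set.eq_singleton_iff_unique_mem.mpr ⟨⟨_, rfl⟩, by
      rintro _ ⟨z, rfl⟩
      rw [(inferInstance : Subsingleton (PrimeSpectrum K)).elim z (closedPoint K)]⟩
  have h := g.toNormalization.denseRange.closure_range
  rw [hr] at h
  exact (show IsGenericPoint (g.toNormalization (closedPoint K)) Set.univ from h).eq (genericPoint_spec _)

include hg in
theorem fromNormalization_genericPoint : g.fromNormalization (genericPoint g.normalization) = genericPoint X := by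
  rw [← toNormalization_closedPoint g, ← Scheme.Hom.comp_apply, g.toNormalization_fromNormalization,
    g_closedPoint φ g hg]

include hg in
theorem preimage_genericPoint :
    g.fromNormalization.base ⁻¹' {genericPoint X} = {genericPoint g.normalization} := by
  ext z
  refine ⟨fun hz ↦ ?_, fun hz ↦ (show z = _ from hz) ▸ fromNormalization_genericPoint φ g hg⟩
  replace hz : g.fromNormalization z = genericPoint X := hz
  obtain ⟨U, hU, _⟩ := exists_affine φ g hg
  have hηU : genericPoint X ∈ U := g_closedPoint φ g hg ▸ closedPoint_mem φ g hg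
  have hW : IsAffineOpen (g.fromNormalization ⁻¹ᵁ U) := hU.preimage _
  have hzm : z ∈ g.fromNormalization ⁻¹ᵁ U := by show g.fromNormalization z ∈ U; rw [hz]; exact hηU
  have hm : genericPoint g.normalization ∈ g.fromNormalization ⁻¹ᵁ U :=
    (genericPoint_specializes z).mem_open (g.fromNormalization ⁻¹ᵁ U).isOpen hzm
  have : Nonempty (g.fromNormalization ⁻¹ᵁ U : g.normalization.Opens) := ⟨⟨_, hm⟩⟩
  let := (g.fromNormalization.app U).hom.toAlgebra
  have : Algebra.IsIntegral Γ(X, U) Γ(g.normalization, g.fromNormalization ⁻¹ᵁ U) :=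
    ⟨g.fromNormalization.isIntegral_app U hU⟩
  have hbot : ∀ {Z : Scheme.{u}} [AlgebraicGeometry.IsIntegral Z] (W : Z.Opens) (hW : IsAffineOpen W)
      (h : genericPoint Z ∈ W), (hW.primeIdealOf ⟨genericPoint Z, h⟩).asIdeal = ⊥ := by
    intro Z _ W hW h
    have : Nonempty W := ⟨⟨_, h⟩⟩
    rw [hW.primeIdealOf_genericPoint, genericPoint_eq_bot_of_affine]
    rfl
  have hq : (hW.primeIdealOf ⟨z, hzm⟩).asIdeal = ⊥ := by
    refine Ideal.eq_bot_of_comap_eq_bot (R := Γ(X, U)) ?_
    have h := IsAffineOpen.comap_primeIdealOf_appLE (f := g.fromNormalization) U hU _ hW le_rfl hzm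
    rw [← Scheme.Hom.app_eq_appLE] at h
    refine (congrArg PrimeSpectrum.asIdeal h).trans ?_
    have key : ∀ (w : X) (hw : w ∈ U), w = genericPoint X → (hU.primeIdealOf ⟨w, hw⟩).asIdeal = ⊥ := by
      rintro w hw rfl; exact hbot U hU hw
    exact key _ _ hz
  have h2 : hW.primeIdealOf ⟨z, hzm⟩ = hW.primeIdealOf ⟨_, hm⟩ :=
    PrimeSpectrum.ext (hq.trans (hbot _ hW hm).symm)
  have h3 := congrArg hW.fromSpec h2
  rwa [hW.fromSpec_primeIdealOf, hW.fromSpec_primeIdealOf] at h3

theorem surjective_stalkMap {φ : X.functionField →+* K} (hg : g = Spec.map (CommRingCat.ofHom φ) ≫ X.fromSpecStalk (genericPoint X))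
    (hφ : Function.Surjective φ) :
    Function.Surjective (g.fromNormalization.stalkMap (g.toNormalization (closedPoint K))).hom := by
  intro t
  obtain ⟨U, hU, _⟩ := exists_affine φ g hg
  have := functionField_isFractionRing_of_isAffineOpen X U hU
  obtain ⟨o, ho⟩ := hφ ((Scheme.stalkClosedPointTo g.toNormalization).hom t)
  obtain ⟨a, b, hb, rfl⟩ := IsFractionRing.div_surjective Γ(X, U) o
  have hm := toNormalization_mem φ g hg U
  let G := fun c ↦ X.presheaf.germ U (g.fromNormalization (g.toNormalization (closedPoint K))) hm c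
  let ψ := (g.fromNormalization.stalkMap (g.toNormalization (closedPoint K))).hom
  let σ := (Scheme.stalkClosedPointTo g.toNormalization).hom
  have hc : ∀ c, σ (ψ (G c)) = toK φ U c := fun c ↦ by
    show σ ((X.presheaf.germ U (g.fromNormalization (g.toNormalization (closedPoint K))) hm ≫
      g.fromNormalization.stalkMap (g.toNormalization (closedPoint K))) c) = _
    rw [Scheme.Hom.germ_stalkMap]
    exact (ConcreteCategory.congr_hom (germ_stalkClosedPointTo_toNormalization φ g hg U hU) _).trans
      (normToK_fromNormalization φ g hg U hU _)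
  have hb0 : toK φ U b ≠ 0 :=
    (map_ne_zero φ).mpr (IsFractionRing.to_map_ne_zero_of_mem_nonZeroDivisors hb)
  have hu : IsUnit (G b) := by
    refine (isUnit_map_iff ψ (G b)).mp ((isUnit_map_iff σ (ψ (G b))).mp ?_)
    rw [hc]; exact hb0.isUnit
  obtain ⟨i, hi⟩ := isUnit_iff_exists_inv.mp hu
  refine ⟨G a * i, injective_stalkClosedPointTo φ g hg ?_⟩
  show σ (ψ (G a * i)) = σ t
  rw [map_mul, map_mul, hc, show σ (ψ i) = (toK φ U b)⁻¹ from
    (inv_eq_of_mul_eq_one_right (by rw [← hc b, ← map_mul, ← map_mul, hi, map_one, map_one])).symm]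
  exact (show toK φ U a * (toK φ U b)⁻¹ = _ by
    show φ _ * (φ _)⁻¹ = _
    rw [← map_inv₀, ← map_mul, ← div_eq_mul_inv]
    exact ho)

end Groth.Agent.NormalizationLib
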