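import Mathlib
import Groth.Agent.NormalizationLib.Basic
import Groth.Agent.CAlgH.NagataFiniteType
import Groth.Agent.CurveLib.Basic

/-! Finiteness of the normalization of a variety, and normalizations of curves. -/

set_option autoImplicit false
set_option backward.isDefEq.respectTransparency.types false

universe u

namespace Groth.Agent.NormalizationLib

open CategoryTheory CategoryTheory.Limits AlgebraicGeometry TopologicalSpace IsLocalRing

/-- Fields are Nagata. -/
theorem isNagata_field (k : Type u) [Field k] : CAlg.IsNagata k := by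
  refine ⟨inferInstance, fun p _ L _ _ _ _ h ↦ ?_⟩
  have hp : p.IsMaximal := ⟨⟨‹p.IsPrime›.ne_top, fun J hJ ↦ (Ideal.eq_bot_or_top J).resolve_left fun h' ↦
    (lt_irrefl (⊥ : Ideal k)) (h' ▸ (bot_le.trans_lt hJ))⟩⟩
  have hf : IsField (k ⧸ p) := (Ideal.Quotient.maximal_ideal_iff_isField_quotient p).mp hp
  let := hf.toField
  have hs : Function.Surjective (algebraMap (k ⧸ p) (FractionRing (k ⧸ p))) := fun z ↦ by
    obtain ⟨a, b, -, rfl⟩ := IsFractionRing.div_surjective (k ⧸ p) z
    exact ⟨a / b, map_div₀ _ _ _⟩
  have : Module.Finite (k ⧸ p) (FractionRing (k ⧸ p)) :=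
    Module.Finite.of_surjective (Algebra.linearMap (k ⧸ p) (FractionRing (k ⧸ p))) hs
  have : Module.Finite (k ⧸ p) L := Module.Finite.trans (FractionRing (k ⧸ p)) L
  infer_instance

variable {X : Scheme.{u}} [AlgebraicGeometry.IsIntegral X] {K : Type u} [Field K] (φ : X.functionField →+* K)
  (g : Spec (CommRingCat.of K) ⟶ X)
  (hg : g = Spec.map (CommRingCat.ofHom φ) ≫ X.fromSpecStalk (genericPoint X)) [QuasiCompact g] [QuasiSeparated g]

include hg in
/-- The normalization of a variety in a finite extension of its function field is finite. -/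
theorem isFinite_fromNormalization (k : Type u) [Field k] (s : X ⟶ Spec (CommRingCat.of k))
    [LocallyOfFiniteType s] (hφ : φ.Finite) : IsFinite g.fromNormalization := by
  refine { finite_app := fun U hU ↦ ?_ }
  rcases isEmpty_or_nonempty U with hemp | hne
  · have hbot : g.fromNormalization ⁻¹ᵁ U = ⊥ := by
      ext x
      exact ⟨fun hx ↦ (hemp.false ⟨_, hx⟩).elim, fun hx ↦ hx.elim⟩
    have : Subsingleton Γ(g.normalization, g.fromNormalization ⁻¹ᵁ U) := by
      rw [hbot]; infer_instance
    exact RingHom.Finite.of_surjective _ fun y ↦ ⟨0, Subsingleton.elim _ _⟩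
  let c : k →+* Γ(X, U) :=
    (s.appLE ⊤ U le_top).hom.comp (Scheme.ΓSpecIso (CommRingCat.of k)).inv.hom
  have hc : c.FiniteType := (s.finiteType_appLE (isAffineOpen_top _) hU le_top).comp
    (RingHom.FiniteType.of_surjective _
      (ConcreteCategory.bijective_of_isIso (Scheme.ΓSpecIso (CommRingCat.of k)).inv).2)
  let := c.toAlgebra
  have : Algebra.FiniteType k Γ(X, U) := hc
  have hN := Groth.Agent.CAlgH.isNagata_of_finiteType (isNagata_field k) Γ(X, U)
  have hN2 : CAlg.IsN2 Γ(X, U) := Groth.Agent.CAlgH.isN2_of_ringEquiv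
    (RingEquiv.quotientBot Γ(X, U)) (hN.2 ⊥)
  let := (toK φ U).toAlgebra
  let := φ.toAlgebra
  have : IsScalarTower Γ(X, U) X.functionField K := IsScalarTower.of_algebraMap_eq fun _ ↦ rfl
  have := functionField_isFractionRing_of_isAffineOpen X U hU
  let e := FractionRing.algEquiv Γ(X, U) X.functionField
  let := (φ.comp e.toRingEquiv.toRingHom).toAlgebra
  have : IsScalarTower Γ(X, U) (FractionRing Γ(X, U)) K := IsScalarTower.of_algebraMap_eq fun a ↦ by
    show _ = φ (e (algebraMap _ _ a))
    rw [e.commutes]; rfl
  have : FiniteDimensional (FractionRing Γ(X, U)) K :=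
    (hφ.comp (RingHom.Finite.of_surjective e.toRingEquiv.toRingHom e.surjective) :)
  have hfin := hN2 K inferInstance
  let := (g.fromNormalization.app U).hom.toAlgebra
  let θ : Γ(g.normalization, g.fromNormalization ⁻¹ᵁ U) →ₐ[Γ(X, U)] integralClosure Γ(X, U) K :=
    { (normToK φ g hg U hU).hom.codRestrict (integralClosure Γ(X, U) K).toSubring
        fun v ↦ (mem_range_normToK φ g hg U hU _).mp ⟨v, rfl⟩ with
      commutes' := fun a ↦ Subtype.ext (normToK_fromNormalization φ g hg U hU a) }
  have hθ : Function.Bijective θ := ⟨fun a b h ↦ injective_normToK φ g hg U hU (congrArg Subtype.val h),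
    fun y ↦ by
      obtain ⟨v, hv⟩ := (mem_range_normToK φ g hg U hU _).mpr y.2
      exact ⟨v, Subtype.ext hv⟩⟩
  exact RingHom.finite_algebraMap.mpr (Module.Finite.equiv (AlgEquiv.ofBijective θ hθ).toLinearEquiv.symm)

include hg in
/-- Closed points of the normalization of a curve have local rings of dimension one. -/
theorem ringKrullDim_stalk_eq_one [JacobsonSpace X] [IsFinite g.fromNormalization]
    (hcurve : ∀ x : X, IsClosed ({x} : Set X) → ringKrullDim (X.presheaf.stalk x) = 1)
    (z : g.normalization) (hz : IsClosed ({z} : Set g.normalization)) :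
    ringKrullDim (g.normalization.presheaf.stalk z) = 1 := by
  have hfz : IsClosed ({g.fromNormalization z} : Set X) := by
    simpa using g.fromNormalization.isClosedMap _ hz
  have hne : ∀ w, w ≠ genericPoint g.normalization → g.fromNormalization w ≠ genericPoint X := fun w hw h ↦
    hw ((Set.ext_iff.mp (preimage_genericPoint φ g hg) w).mp h)
  have hzη : z ≠ genericPoint g.normalization := fun h ↦ by
    rw [h, fromNormalization_genericPoint φ g hg] at hfz
    exact CurveLib.not_isClosed_genericPoint hcurve hfz
  have key : ∀ y, z < y → y = genericPoint g.normalization := fun y hy ↦ by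
    by_contra hyη
    have hyz : y ⤳ z := hy.le
    have hfy : IsClosed ({g.fromNormalization y} : Set X) := by
      by_contra h
      exact hne y hyη (CurveLib.eq_genericPoint_of_not_isClosed hcurve h)
    have heq : g.fromNormalization z = g.fromNormalization y :=
      (hyz.map g.fromNormalization.continuous).mem_closed hfy rfl
    have hd := g.fromNormalization.isDiscrete_preimage_singleton (g.fromNormalization y)
    have hd' := hd.to_subtype
    have hsp : (⟨y, rfl⟩ : (g.fromNormalization ⁻¹' {g.fromNormalization y} : Set g.normalization)) ⤳ ⟨z, heq⟩ :=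
      Topology.IsInducing.subtypeVal.specializes_iff.mp hyz
    exact hy.ne (congrArg Subtype.val hsp.eq).symm
  rw [ringKrullDim_stalk_eq_coheight]
  have h1 : Order.coheight z ≤ ((1 : ℕ) : ℕ∞) := by
    rw [Order.coheight_le_coe_iff]
    intro y hy
    rw [key y hy, show Order.coheight (genericPoint g.normalization) = 0 from
      Order.coheight_eq_zero.mpr fun w _ ↦ genericPoint_specializes w]
    exact zero_lt_one
  have h2 : 1 ≤ Order.coheight z := by
    rw [Order.one_le_iff_pos, pos_iff_ne_zero]
    intro h
    have hmax : IsMax z := Order.coheight_eq_zero.mp h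
    have h2' : z ⤳ genericPoint g.normalization := hmax (genericPoint_specializes z)
    exact hzη (h2'.antisymm (genericPoint_specializes z)).eq
  exact_mod_cast le_antisymm (by exact_mod_cast h1) h2

end Groth.Agent.NormalizationLib
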